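import Groth.Prelude.Def_RedSub
import Groth.Agent.CentMax.Descent
import Groth.Agent.RedCentre.Main

/-!
# Subgroups of type (R) and base change
-/

universe u

open CategoryTheory CategoryTheory.Limits MonoidalCategory CartesianMonoidalCategory MonObj AlgebraicGeometry

set_option backward.isDefEq.respectTransparency.types false
set_option linter.style.haveILetI false
set_option synthInstance.maxHeartbeats 200000
set_option maxHeartbeats 1000000
set_option autoImplicit false

namespace Groth.Agent.TypeRLib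

open MaxTorTransp (isMonHom_cmp_hom)
open GrpLimLib (cmp)

variable {S : Scheme.{u}}

/-- The geometric point over a point of `S'` factors through the one over its image. -/
theorem exists_geomPt_fac {S' : Scheme.{u}} (f : S' ⟶ S) (s' : S') :
    ∃ g : Spec (CommRingCat.of (AlgebraicClosure (S'.residueField s'))) ⟶
        Spec (CommRingCat.of (AlgebraicClosure (S.residueField (f s')))),
      g ≫ Red.geomPt (f s') = Red.geomPt s' ≫ f := by
  let Ω := AlgebraicClosure (S'.residueField s')
  let b : Spec (CommRingCat.of Ω) ⟶ S := Red.geomPt s' ≫ f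
  have hs : b (IsLocalRing.closedPoint Ω) = f s' := by
    show (Red.geomPt s' ≫ f) _ = _
    rw [Scheme.Hom.comp_apply]
    congr 1
    show (Spec.map _ ≫ S'.fromSpecResidueField s') _ = s'
    rw [Scheme.Hom.comp_apply, Scheme.fromSpecResidueField_apply]
  rw [← hs]
  let L := AlgebraicClosure (S.residueField (b (IsLocalRing.closedPoint Ω)))
  let φ : S.residueField (b (IsLocalRing.closedPoint Ω)) →+* Ω :=
    (Scheme.descResidueField (Scheme.stalkClosedPointTo b)).hom
  letI : Algebra (S.residueField (b (IsLocalRing.closedPoint Ω))) Ω := φ.toAlgebra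
  let σ : L →ₐ[S.residueField (b (IsLocalRing.closedPoint Ω))] Ω := IsAlgClosed.lift
  refine ⟨Spec.map (CommRingCat.ofHom σ.toRingHom), ?_⟩
  show Spec.map _ ≫ Spec.map _ ≫ _ = b
  rw [← Category.assoc, ← Spec.map_comp, ← CommRingCat.ofHom_comp]
  conv_rhs => rw [← Scheme.descResidueField_stalkClosedPointTo_fromSpecResidueField Ω S b]
  congr 2
  ext x
  exact σ.commutes x

/-- Subgroups of type (R) are stable under base change. -/
theorem isTypeR_bc {S' : Scheme.{u}} {G H : Over S} [GrpObj G] [GrpObj H] [LocallyOfFinitePresentation G.hom]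
    [QuasiCompact G.hom] [QuasiSeparated G.hom] (i : H ⟶ G) (hH : RedSub.IsTypeR i) (f : S' ⟶ S) :
    RedSub.IsTypeR ((Over.pullback f).map i) := by
  obtain ⟨⟨hi, hi'⟩, hsm, hqc, hconn, hfib⟩ := hH
  haveI := hi
  haveI := hi'
  haveI := hqc
  refine ⟨⟨inferInstance, MorphismProperty.of_isPullback (MaxTorusBC.isPullback_map f i) hi'⟩,
    MorphismProperty.pullback_snd (P := @Smooth) _ _ hsm, inferInstanceAs (QuasiCompact (pullback.snd _ _)),
    fun s' => RedCentre.isConnected_fibre_bc f H hconn s', fun s' => ?_⟩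
  obtain ⟨T, iT, t, ht, hmax⟩ := hfib (f s')
  haveI := ht
  obtain ⟨g, hg⟩ := exists_geomPt_fac f s'
  have h₂ : Red.geomPt s' ≫ f = g ≫ Red.geomPt (f s') := hg.symm
  haveI : LocallyOfFinitePresentation (Red.geomFibre (f s') G).hom :=
    inferInstanceAs (LocallyOfFinitePresentation (pullback.snd _ _))
  haveI : QuasiCompact (Red.geomFibre (f s') G).hom := inferInstanceAs (QuasiCompact (pullback.snd _ _))
  haveI : QuasiSeparated (Red.geomFibre (f s') G).hom := inferInstanceAs (QuasiSeparated (pullback.snd _ _))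
  haveI := isMonHom_cmp_hom (rfl : g ≫ Red.geomPt (f s') = _) G
  haveI := isMonHom_cmp_hom (rfl : g ≫ Red.geomPt (f s') = _) H
  haveI := isMonHom_cmp_hom h₂ G
  haveI := isMonHom_cmp_hom h₂ H
  let eG : Red.bc g (Red.geomFibre (f s') G) ≅ Red.geomFibre s' (Red.bc f G) :=
    cmp (rfl : g ≫ Red.geomPt (f s') = _) G ≪≫ (cmp h₂ G).symm
  let eH : Red.bc g (Red.geomFibre (f s') H) ≅ Red.geomFibre s' (Red.bc f H) :=
    cmp (rfl : g ≫ Red.geomPt (f s') = _) H ≪≫ (cmp h₂ H).symm
  haveI : IsMonHom eG.hom :=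
    inferInstanceAs (IsMonHom ((cmp (rfl : g ≫ Red.geomPt (f s') = _) G).hom ≫ (cmp h₂ G).inv))
  haveI : IsMonHom eH.hom :=
    inferInstanceAs (IsMonHom ((cmp (rfl : g ≫ Red.geomPt (f s') = _) H).hom ≫ (cmp h₂ H).inv))
  haveI : IsMonHom ((Over.pullback g).map t ≫ eH.hom) := inferInstance
  refine ⟨Red.bc g T, inferInstance, (Over.pullback g).map t ≫ eH.hom, inferInstance, ?_⟩
  haveI : IsMonHom ((Over.pullback (Red.geomPt s')).map ((Over.pullback f).map i)) := inferInstance
  refine CentMax.isMaximalTorus_of_iso (CentMax.isMaximalTorus_bc hmax g) (SolvGrp.isTorus_bc g hmax.2.2.1)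
    (Iso.refl _) eG ?_
  rw [Iso.refl_hom, Category.id_comp, Category.assoc, Functor.map_comp, Category.assoc]
  congr 1
  show ((cmp _ H).hom ≫ (cmp h₂ H).inv) ≫ _ = _ ≫ (cmp _ G).hom ≫ (cmp h₂ G).inv
  rw [← Category.assoc ((Over.pullback g).map _), MaxTorusBC.cmp_naturality, Category.assoc, Category.assoc]
  congr 1
  rw [Iso.inv_comp_eq, ← Category.assoc, ← MaxTorusBC.cmp_naturality h₂ i, Category.assoc, Iso.hom_inv_id,
    Category.comp_id]

/-- A subgroup of type (R) followed by an isomorphism of groups. -/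
theorem isTypeR_comp_iso {G G' H : Over S} [GrpObj G] [GrpObj G'] [GrpObj H] {i : H ⟶ G} (hH : RedSub.IsTypeR i)
    (e : G ≅ G') [IsMonHom e.hom] : RedSub.IsTypeR (i ≫ e.hom) := by
  obtain ⟨⟨hi, hi'⟩, hsm, hqc, hconn, hfib⟩ := hH
  haveI := hi
  haveI := hi'
  haveI : IsIso e.hom.left := inferInstanceAs (IsIso ((Over.forget S).map e.hom))
  refine ⟨⟨inferInstance, inferInstanceAs (IsImmersion (i.left ≫ e.hom.left))⟩, hsm, hqc, hconn, fun s => ?_⟩
  obtain ⟨T, iT, t, ht, hmax⟩ := hfib s
  haveI := ht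
  refine ⟨T, iT, t, ht, ?_⟩
  rw [Functor.map_comp, ← Category.assoc]
  exact MaxTorCent.isMaximalTorus_comp_iso hmax _

end Groth.Agent.TypeRLib
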