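import Groth.Prelude.Def_RedSub
import Groth.Agent.CentMax.Descent
import Groth.Agent.FixTorus.Conn
import Groth.Agent.S8406

/-!
# Maximal tori of a subgroup containing a maximal torus
-/

universe u

open CategoryTheory CategoryTheory.Limits MonoidalCategory CartesianMonoidalCategory MonObj AlgebraicGeometry

set_option backward.isDefEq.respectTransparency.types false
set_option linter.style.haveILetI false
set_option synthInstance.maxHeartbeats 100000
set_option autoImplicit false

namespace Groth.Agent.TypeRLib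

variable {S : Scheme.{u}} {G H T : Over S} [GrpObj G] [GrpObj H] [GrpObj T]

/-- A subtorus of a subgroup which is maximal in the ambient group is maximal in the subgroup. -/
theorem isMaximalTorus_of_comp (t : T ⟶ H) [IsMonHom t] (i : H ⟶ G) [IsMonHom i] [Mono i]
    (h : Red.IsMaximalTorus (t ≫ i)) : Red.IsMaximalTorus t := by
  haveI := h.2.1
  haveI : Mono t := mono_of_mono t i
  refine ⟨inferInstance, inferInstance, h.2.2.1, fun s T' _ j _ _ f hT' hf => ?_⟩
  haveI : (Over.pullback (Red.geomPt s)).IsRightAdjoint := (Over.mapPullbackAdj _).isRightAdjoint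
  haveI : IsMonHom (j ≫ (Over.pullback (Red.geomPt s)).map i) := inferInstance
  haveI : Mono (j ≫ (Over.pullback (Red.geomPt s)).map i) := mono_comp _ _
  exact h.2.2.2 s T' (j ≫ (Over.pullback (Red.geomPt s)).map i) f hT' (by
    rw [← Category.assoc, hf, ← Functor.map_comp])

/-- Conjugation by a rational point. -/
noncomputable def conj (g : 𝟙_ (Over S) ⟶ G) : G ⟶ G := (toUnit G ≫ g) * 𝟙 G * (toUnit G ≫ g)⁻¹

theorem comp_conj (g : 𝟙_ (Over S) ⟶ G) {X : Over S} (a : X ⟶ G) :
    a ≫ conj g = (toUnit X ≫ g) * a * (toUnit X ≫ g)⁻¹ := by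
  rw [conj, MonObj.comp_mul, MonObj.comp_mul, GrpObj.comp_inv, Category.comp_id, ← Category.assoc,
    toUnit_unique (a ≫ toUnit G) (toUnit X)]

instance isMonHom_conj (g : 𝟙_ (Over S) ⟶ G) : IsMonHom (conj g) :=
  AGFLib.isMonHom_of_mul _ fun X a b => by
    rw [comp_conj, comp_conj, comp_conj]
    group

instance isIso_conj (g : 𝟙_ (Over S) ⟶ G) : IsIso (conj g) := by
  refine ⟨conj g⁻¹, ?_, ?_⟩
  · have h : 𝟙 G ≫ conj g ≫ conj g⁻¹ = 𝟙 G := by
      rw [← Category.assoc, comp_conj, comp_conj, GrpObj.comp_inv]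
      group
    rwa [Category.id_comp] at h
  · have h : 𝟙 G ≫ conj g⁻¹ ≫ conj g = 𝟙 G := by
      rw [← Category.assoc, comp_conj, comp_conj, GrpObj.comp_inv]
      group
    rwa [Category.id_comp] at h

/-- A maximal torus of a smooth connected subgroup containing a maximal torus is maximal in the ambient group. -/
theorem isMaximalTorus_comp {k : Type u} [Field k] [IsAlgClosed k]
    {G H T T₀ : Over (Spec (CommRingCat.of k))} [GrpObj G] [GrpObj H] [GrpObj T] [GrpObj T₀]
    [Smooth H.hom] [QuasiCompact H.hom] [ConnectedSpace ↥H.left] (i : H ⟶ G) [IsMonHom i] [Mono i]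
    (t₀ : T₀ ⟶ H) [IsMonHom t₀] (h₀ : Red.IsMaximalTorus (t₀ ≫ i)) (t : T ⟶ H) (ht : Red.IsMaximalTorus t) :
    Red.IsMaximalTorus (t ≫ i) := by
  haveI := ht.1
  haveI := ht.2.1
  obtain ⟨g, φ, hφ⟩ := S8406.result k H T₀ T t₀ t (isMaximalTorus_of_comp t₀ i h₀) ht
  have e : φ.hom ≫ t ≫ i = (t₀ ≫ i) ≫ conj (g ≫ i) := by
    rw [← Category.assoc, ← hφ, MonObj.mul_comp, MonObj.mul_comp, GrpObj.inv_comp, comp_conj, Category.assoc]
  refine CentMax.isMaximalTorus_of_iso h₀ ht.2.2.1 φ (asIso (conj (g ≫ i))) ?_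
  rw [asIso_hom, e]

/-- Transitivity of subgroups of type (R). -/
theorem isTypeR_comp_iff {K : Over S} [GrpObj K] [QuasiSeparated G.hom] (i : H ⟶ G) (hH : RedSub.IsTypeR i)
    (k : K ⟶ H) [IsMonHom k] : RedSub.IsTypeR k ↔ RedSub.IsTypeR (k ≫ i) := by
  obtain ⟨⟨hi, hi'⟩, hsm, hqc, hconn, hfib⟩ := hH
  haveI := hi
  haveI := hi'
  haveI : Mono i := Over.mono_of_mono_left i
  constructor
  · rintro ⟨⟨hk, hk'⟩, hKs, hKq, hKc, hKf⟩
    haveI := hk'
    refine ⟨⟨inferInstance, inferInstanceAs (IsImmersion (k.left ≫ i.left))⟩, hKs, hKq, hKc, fun s => ?_⟩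
    obtain ⟨T, iT, t, ht, hmax⟩ := hKf s
    obtain ⟨T₀, iT₀, t₀, ht₀, hmax₀⟩ := hfib s
    haveI := ht
    haveI := ht₀
    haveI : (Over.pullback (Red.geomPt s)).IsRightAdjoint := (Over.mapPullbackAdj _).isRightAdjoint
    haveI : Smooth (Red.geomFibre s H).hom := MorphismProperty.pullback_snd (P := @Smooth) _ _ hsm
    haveI : QuasiCompact (Red.geomFibre s H).hom := inferInstanceAs (QuasiCompact (pullback.snd _ _))
    haveI : ConnectedSpace ↥(Red.geomFibre s H).left := FixTorus.connectedSpace_geomFibre s (hconn s)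
    haveI : IsMonHom ((Over.pullback (Red.geomPt s)).map k) := inferInstance
    refine ⟨T, iT, t, ht, ?_⟩
    rw [Functor.map_comp, ← Category.assoc]
    exact isMaximalTorus_comp ((Over.pullback (Red.geomPt s)).map i) t₀ hmax₀ _ hmax
  · rintro ⟨⟨hk, hk'⟩, hKs, hKq, hKc, hKf⟩
    haveI : IsImmersion (k.left ≫ i.left) := hk'
    refine ⟨⟨inferInstance, IsImmersion.of_comp k.left i.left⟩, hKs, hKq, hKc, fun s => ?_⟩
    obtain ⟨T, iT, t, ht, hmax⟩ := hKf s
    haveI := ht
    haveI : (Over.pullback (Red.geomPt s)).IsRightAdjoint := (Over.mapPullbackAdj _).isRightAdjoint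
    haveI : IsMonHom ((Over.pullback (Red.geomPt s)).map k) := inferInstance
    haveI : Mono ((Over.pullback (Red.geomPt s)).map i) := inferInstance
    refine ⟨T, iT, t, ht, ?_⟩
    rw [Functor.map_comp, ← Category.assoc] at hmax
    exact isMaximalTorus_of_comp _ _ hmax

end Groth.Agent.TypeRLib
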